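import Groth.Agent.H15Site.CompactRetract.Main
import Groth.Agent.H15Site.CompactFree.Modules

/-!
# Finite support and preservation of direct sums
-/

set_option autoImplicit false
set_option linter.style.haveILetI false
set_option linter.unusedSectionVars false
set_option backward.isDefEq.respectTransparency false
set_option backward.isDefEq.respectTransparency.types false

universe v u

open CategoryTheory CategoryTheory.Limits Opposite

namespace Groth.Agent.H15Site.CompactRetract

open Groth.Agent.H16Derived.QCohD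

open Classical in
/-- Finite support of maps into sums gives preservation of sums. -/
theorem preservesColimitsOfShape_of_finMaps {A : Type u} [Category.{v} A] [Preadditive A]
    [HasCoproducts.{v} A] {E : A}
    (h : ∀ (κ : Type v) (F : κ → A) (g : E ⟶ ∐ F), ∃ s : Finset κ, g ≫ FinSupp.idem F s = g) (ι : Type v) :
    PreservesColimitsOfShape (Discrete ι) (preadditiveCoyoneda.obj (op E)) := by
  let Φ : A ⥤ AddCommGrpCat.{v} := preadditiveCoyoneda.obj (op E)
  haveI : ∀ F : ι → A, PreservesColimit (Discrete.functor F) Φ := fun F => by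
    let θ := PerfAux.homSumToHomCoprod E F
    have hθ : Function.Bijective θ :=
      (FinSupp.isCompactObjRel_iff (P := fun _ : A => True) E).2 (fun κ X _ _ g => h κ X g) ι F fun _ => trivial
    let e := AddEquiv.ofBijective θ hθ
    refine preservesColimit_of_preserves_colimit_cocone (coproductIsCoproduct F)
      ((isColimitMapCoconeCofanMkEquiv Φ F (Sigma.ι F)).symm ?_)
    refine mkCofanColimit _
      (fun t => AddCommGrpCat.ofHom ((DirectSum.toAddMonoid fun i => (t.inj i).hom).comp e.symm.toAddMonoidHom))
      (fun t i => AddCommGrpCat.hom_ext (AddMonoidHom.ext fun x => ?_))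
      (fun t m hm => AddCommGrpCat.hom_ext (AddMonoidHom.ext fun y => ?_))
    · have hx : e (DirectSum.of (fun i => E ⟶ F i) i x) = (show E ⟶ F i from x) ≫ Sigma.ι F i :=
        DirectSum.toAddMonoid_of (fun i => Preadditive.rightComp E (Sigma.ι F i)) i x
      show DirectSum.toAddMonoid (fun i => (t.inj i).hom) (e.symm ((show E ⟶ F i from x) ≫ Sigma.ι F i)) = _
      rw [← hx, AddEquiv.symm_apply_apply]
      exact DirectSum.toAddMonoid_of _ _ _
    · obtain ⟨b, rfl⟩ := e.surjective y
      show m.hom (e b) = DirectSum.toAddMonoid (fun i => (t.inj i).hom) (e.symm (e b))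
      rw [AddEquiv.symm_apply_apply]
      refine DFunLike.congr_fun (DirectSum.addHom_ext' fun i => AddMonoidHom.ext fun x => ?_ :
        m.hom.comp e.toAddMonoidHom = DirectSum.toAddMonoid fun i => (t.inj i).hom) b
      refine Eq.trans ?_ (DirectSum.toAddMonoid_of (fun i => (t.inj i).hom) i x).symm
      exact (congrArg m.hom (DirectSum.toAddMonoid_of _ _ _)).trans
        (congrArg (fun g => AddCommGrpCat.Hom.hom g x) (hm i))
  exact preservesColimitsOfShape_of_discrete Φ

end Groth.Agent.H15Site.CompactRetract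

namespace Groth.Agent.H15Site.CompactFree

attribute [local instance 10000] SiteInst.hasSheafifySite SiteInst.hasWeakSheafifySite
attribute [local instance] H10Coh.isGrothendieckAbelian_sheafOfModules

open ModTensor LocPres

variable {C : Type u} [SmallCategory C] {J : GrothendieckTopology C} (O : Sheaf J CommRingCat.{u})

/-- Modules are quotients of sums of `j_! O_U` over a generating class of objects. -/
theorem exists_epi_freeOn (P : C → Prop)
    (hC : ∀ V : C, ∃ R ∈ J V, ∀ ⦃W : C⦄ (g : W ⟶ V), R g → ∃ (U : C) (a : W ⟶ U) (b : U ⟶ V), P U ∧ a ≫ b = g)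
    (X : ModSite.Mod O) :
    ∃ (ι : Type u) (E : ι → ModSite.Mod O) (π : ∐ E ⟶ X),
      (∀ i, ∃ U, P U ∧ E i = ModSite.freeOn O U) ∧ Epi π := by
  let ι := Σ U : {U : C // P U}, ModSite.sect X U.1
  let π : (∐ fun k : ι => ModSite.freeOn O k.1.1) ⟶ X :=
    Sigma.desc fun k => (FreeOn.homEquiv O k.1.1 X).symm k.2
  refine ⟨ι, _, π, fun k => ⟨k.1.1, k.1.2, rfl⟩, Preadditive.epi_of_cancel_zero _ fun {Z} h hh => ?_⟩
  have key : ∀ (U : C) (_ : P U) (x : ModSite.sect X U), (h.val.app (op U)).hom x = 0 := fun U hU x => by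
    have h0 := Sigma.ι (fun k : ι => ModSite.freeOn O k.1.1) ⟨⟨U, hU⟩, x⟩ ≫= hh
    rw [comp_zero, Sigma.ι_desc_assoc] at h0
    have e := congrArg (FreeOn.homEquiv O U Z) h0
    rw [FreeOn.homEquiv_comp, AddEquiv.apply_symm_apply, map_zero] at e
    exact e
  refine SheafOfModules.hom_ext (PresheafOfModules.Hom.ext (funext fun V => ?_))
  refine ModuleCat.hom_ext (LinearMap.ext fun t => ?_)
  obtain ⟨R, hR, hR'⟩ := hC V.unop
  refine separated_forg Z (X := V) _ hR _ _ fun W g hg => ?_
  obtain ⟨U, a, b, hU, rfl⟩ := hR' g hg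
  have e0 : (h.val.app (op W)).hom (rs ((forg O).obj X) (a ≫ b).op t) = 0 := by
    rw [op_comp, ← rs_rs]
    refine (app_rs h a.op _).trans ?_
    refine (congrArg (rs ((forg O).obj Z) a.op) (key U hU _)).trans ?_
    exact map_zero _
  refine (app_rs h (a ≫ b).op t).symm.trans (e0.trans (Eq.symm ?_))
  exact map_zero _

end Groth.Agent.H15Site.CompactFree
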