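import Groth.Agent.H15Site.CompactRetract.Sums
import Groth.Agent.H16Derived.Resolution
import Groth.Agent.H16Derived.Stupid
import Mathlib.Algebra.Homology.DerivedCategory.ShortExact
import Mathlib.Algebra.Homology.DerivedCategory.TStructure

/-!
# Compact objects are retracts of bounded complexes of finite direct sums of generators
-/

set_option autoImplicit false
set_option linter.style.haveILetI false
set_option linter.unusedSectionVars false
set_option backward.isDefEq.respectTransparency false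
set_option backward.isDefEq.respectTransparency.types false

universe v u

open CategoryTheory CategoryTheory.Limits CategoryTheory.Pretriangulated Opposite HomologicalComplex

namespace Groth.Agent.H15Site.CompactRetract

open Groth.Agent.H16Derived Groth.Agent.H16Derived.QCohD

variable {A : Type u} [Category.{v} A] [Abelian A] [IsGrothendieckAbelian.{v} A] [HasCoproducts.{v} A]
  [HasFiniteBiproducts A] [HasDerivedCategory.{v} A] [HasCoproducts.{v} (DerivedCategory A)] {S : Set A}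

/-- A compact object is bounded above. -/
theorem exists_isLE {K : DerivedCategory A} (hK : CohDer.IsCompactObject K) : ∃ n : ℤ, K.IsLE n := by
  let C := DerivedCategory.Q.objPreimage K
  let e : DerivedCategory.Q.obj C ≅ K := DerivedCategory.Q.objObjPreimageIso K
  obtain ⟨N, hN⟩ := exists_bound hK e.inv (fun m => C.truncGE (m : ℤ)) (fun m => C.πTruncGE (m : ℤ))
    fun q => ⟨q.toNat + 1, fun m hm =>
      (CochainComplex.isZero_of_isStrictlyGE (C.truncGE (m : ℤ)) (m : ℤ) q (by omega)).eq_of_tgt _ _⟩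
  haveI : C.IsLE (N : ℤ) := (CochainComplex.isLE_iff C _).2 fun i hi => by
    obtain ⟨m, rfl⟩ : ∃ m : ℕ, i = m := ⟨i.toNat, by omega⟩
    have h0 : DerivedCategory.Q.map (C.πTruncGE (m : ℤ)) = 0 :=
      (cancel_epi e.inv).1 ((hN m (by omega)).trans comp_zero.symm)
    have h1 : homologyMap (C.πTruncGE (m : ℤ)) (m : ℤ) = 0 := by
      rw [← cancel_epi ((DerivedCategory.homologyFunctorFactors A (m : ℤ)).hom.app C)]
      refine ((DerivedCategory.homologyFunctorFactors A (m : ℤ)).hom.naturality (C.πTruncGE (m : ℤ))).symm.trans ?_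
      rw [Functor.comp_map, h0, Functor.map_zero, zero_comp, comp_zero]
    rw [exactAt_iff_isZero_homology, IsZero.iff_id_eq_zero, ← cancel_mono (homologyMap (C.πTruncGE (m : ℤ)) (m : ℤ)),
      h1, comp_zero, zero_comp]
  exact ⟨N, DerivedCategory.TStructure.t.isLE_of_iso e (N : ℤ)⟩

/-- Bounded above resolutions by sums. -/
theorem exists_sum_rep (h1 : ∀ X : A, ∃ (ι : Type v) (E : ι → A) (π : ∐ E ⟶ X), (∀ i, E i ∈ S) ∧ Epi π)
    {K : DerivedCategory A} (n : ℤ) [K.IsLE n] :
    ∃ P : CochainComplex A ℤ, P.IsStrictlyLE n ∧ (∀ i, SumS S (P.X i)) ∧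
      Nonempty (K ≅ DerivedCategory.Q.obj P) := by
  obtain ⟨C, hC, ⟨e⟩⟩ := DerivedCategory.exists_iso_Q_obj_of_isLE K n
  obtain ⟨P, α, hP, hS, -, hq⟩ := Resolution.exists_left_resolution (SumS S)
    ⟨_, isZero_zero A, SumS.of_isZero (isZero_zero A)⟩ (fun X => by
      obtain ⟨ι, E, π, hE, hπ⟩ := h1 X
      exact ⟨_, π, ⟨ι, E, hE, ⟨Iso.refl _⟩⟩, hπ⟩) C n
  haveI : IsIso (DerivedCategory.Q.map α) := by
    rw [DerivedCategory.isIso_Q_map_iff_quasiIso]; infer_instance
  exact ⟨P, hP, hS, ⟨e ≪≫ (asIso (DerivedCategory.Q.map α)).symm⟩⟩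

/-- A compact object is a retract of a bounded complex of sums. -/
theorem exists_bounded (h1 : ∀ X : A, ∃ (ι : Type v) (E : ι → A) (π : ∐ E ⟶ X), (∀ i, E i ∈ S) ∧ Epi π)
    {K : DerivedCategory A} (hK : CohDer.IsCompactObject K) :
    ∃ (P : CochainComplex A ℤ) (a b : ℤ), (∀ i, i < a ∨ b < i → IsZero (P.X i)) ∧
      (∀ i, SumS S (P.X i)) ∧ Nonempty (Retract K (DerivedCategory.Q.obj P)) := by
  obtain ⟨n, hn⟩ := exists_isLE hK
  obtain ⟨P, hP, hS, ⟨e⟩⟩ := exists_sum_rep h1 (K := K) n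
  have hmono : ∀ a, Mono (Stupid.ι P a) := fun a => by
    haveI : ∀ q, Mono ((Stupid.ι P a).f q) := fun q => by
      rcases le_or_gt a q with h | h
      · haveI := Stupid.isIso_ι_f P a q h
        infer_instance
      · exact ⟨fun f g _ => (Stupid.isZero_X P a q h).eq_of_tgt f g⟩
    exact HomologicalComplex.mono_of_mono_f _ inferInstance
  obtain ⟨N, hN⟩ := exists_bound hK e.hom (fun m => cokernel (Stupid.ι P (-(m : ℤ))))
    (fun m => cokernel.π _) fun q => ⟨(-q).toNat, fun m hm => by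
      haveI := Stupid.isIso_ι_f P (-(m : ℤ)) q (by omega)
      rw [← cancel_epi ((Stupid.ι P (-(m : ℤ))).f q), ← comp_f, cokernel.condition, comp_zero, zero_f]⟩
  let a : ℤ := -(N : ℤ)
  haveI := hmono a
  let T : ShortComplex (CochainComplex A ℤ) :=
    ShortComplex.mk (Stupid.ι P a) (cokernel.π _) (cokernel.condition _)
  have hT : T.ShortExact :=
    { exact := ShortComplex.exact_cokernel _
      mono_f := hmono a
      epi_g := inferInstanceAs (Epi (cokernel.π _)) }
  obtain ⟨v, hv⟩ := Triangle.coyoneda_exact₂ _ (DerivedCategory.triangleOfSES_distinguished hT) e.hom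
    (hN N le_rfl)
  refine ⟨Stupid.σ P a, a, n, fun i hi => ?_, fun i => ?_,
    ⟨⟨v, DerivedCategory.Q.map (Stupid.ι P a) ≫ e.inv, ?_⟩⟩⟩
  · by_cases h : i < a
    · exact Stupid.isZero_X P a i h
    · haveI := Stupid.isIso_ι_f P a i (by omega)
      exact (CochainComplex.isZero_of_isStrictlyLE P n i (by omega)).of_iso (asIso ((Stupid.ι P a).f i))
  · by_cases h : i < a
    · exact SumS.of_isZero (Stupid.isZero_X P a i h)
    · haveI := Stupid.isIso_ι_f P a i (by omega)
      exact (hS i).of_iso (asIso ((Stupid.ι P a).f i)).symm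
  · rw [← Category.assoc]
    exact (congrArg (· ≫ e.inv) hv.symm).trans e.hom_inv_id

open Classical in
/-- The projection away from `J`. -/
noncomputable def cop {κ : Type v} (E : κ → A) (J : Finset κ) :
    (∐ E) ⟶ ∐ fun i : {i : κ // i ∉ J} => E i.1 :=
  Sigma.desc fun i => if h : i ∈ J then 0 else Sigma.ι (fun i : {i : κ // i ∉ J} => E i.1) ⟨i, h⟩

open Classical in
/-- The projection to `J`. -/
noncomputable def toJ {κ : Type v} (E : κ → A) (J : Finset κ) :
    (∐ E) ⟶ ∐ fun i : {i : κ // i ∈ J} => E i.1 :=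
  Sigma.desc fun i => if h : i ∈ J then Sigma.ι (fun i : {i : κ // i ∈ J} => E i.1) ⟨i, h⟩ else 0

/-- The inclusion of a subfamily. -/
noncomputable def incl {κ : Type v} (E : κ → A) (p : κ → Prop) : (∐ fun i : {i : κ // p i} => E i.1) ⟶ ∐ E :=
  Sigma.desc fun i => Sigma.ι E i.1

lemma incl_cop {κ : Type v} (E : κ → A) (J : Finset κ) : incl E (· ∈ J) ≫ cop E J = 0 :=
  Sigma.hom_ext _ _ fun i => by simp [incl, cop, i.2]

lemma incl_cop' {κ : Type v} (E : κ → A) (J : Finset κ) : incl E (· ∉ J) ≫ cop E J = 𝟙 _ :=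
  Sigma.hom_ext _ _ fun i => by simp [incl, cop, i.2]

lemma incl_toJ {κ : Type v} (E : κ → A) (J : Finset κ) : incl E (· ∈ J) ≫ toJ E J = 𝟙 _ :=
  Sigma.hom_ext _ _ fun i => by simp [incl, toJ, i.2]

lemma cop_total {κ : Type v} (E : κ → A) (J : Finset κ) :
    toJ E J ≫ incl E (· ∈ J) + cop E J ≫ incl E (· ∉ J) = 𝟙 _ :=
  Sigma.hom_ext _ _ fun i => by by_cases h : i ∈ J <;> simp [incl, cop, toJ, h]

lemma idem_cop {κ : Type v} (E : κ → A) {J s : Finset κ} (h : s ⊆ J) :
    FinSupp.idem E s ≫ cop E J = 0 :=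
  Sigma.hom_ext _ _ fun i => by
    rw [← Category.assoc, FinSupp.ι_idem]
    by_cases hi : i ∈ s
    · simp [hi, cop, h hi]
    · simp [hi]

lemma incl_cop_cop {κ : Type v} (E : κ → A) {J₀ J : Finset κ} (h : J₀ ⊆ J) :
    cop E J₀ ≫ incl E (· ∉ J₀) ≫ cop E J = cop E J :=
  Sigma.hom_ext _ _ fun i => by
    by_cases hi : i ∈ J₀
    · simp [cop, incl, hi, h hi]
    · simp [cop, incl, hi]

/-- One step: make the term of degree `k` finite. -/
theorem exists_step (h2 : ∀ E ∈ S, ∀ ι : Type v, PreservesColimitsOfShape (Discrete ι)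
    (preadditiveCoyoneda.obj (op E))) {K : DerivedCategory A} (hK : CohDer.IsCompactObject K)
    (P : CochainComplex A ℤ) (k : ℤ) (hk : SumS S (P.X k)) (hprev : FinS S (P.X (k - 1)))
    (w : K ⟶ DerivedCategory.Q.obj P) :
    ∃ (P' : CochainComplex A ℤ) (f : P' ⟶ P) (w' : K ⟶ DerivedCategory.Q.obj P'),
      w' ≫ DerivedCategory.Q.map f = w ∧ FinS S (P'.X k) ∧ ∀ i, i ≠ k → Nonempty (P'.X i ≅ P.X i) := by
  classical
  obtain ⟨κ, E, hE, ⟨e⟩⟩ := hk
  obtain ⟨s₀, hs₀⟩ := exists_support h2 hprev E (P.d (k - 1) k ≫ e.hom)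
  have hd : ∀ J, s₀ ⊆ J → ∀ i, (ComplexShape.up ℤ).Rel i k → P.d i k ≫ e.hom ≫ cop E J = 0 :=
    fun J hJ i hi => by
      obtain rfl : i = k - 1 := by change i + 1 = k at hi; omega
      rw [← Category.assoc, ← hs₀, Category.assoc, idem_cop E hJ, comp_zero]
  let F := HomologicalComplex.single A (ComplexShape.up ℤ) k
  let ψ : ∀ J, s₀ ⊆ J → (P ⟶ F.obj (∐ fun i : {i : κ // i ∉ J} => E i.1)) := fun J hJ =>
    mkHomToSingle (e.hom ≫ cop E J) (hd J hJ)
  let E₀ : {i : κ // i ∉ s₀} → A := fun i => E i.1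
  let cI : (∐ fun i => F.obj (E₀ i)) ≅ F.obj (∐ E₀) := (PreservesCoproduct.iso F E₀).symm
  obtain ⟨t, ht⟩ := exists_finset hK (fun i => F.obj (E₀ i))
    ((w ≫ DerivedCategory.Q.map (ψ s₀ subset_rfl)) ≫ DerivedCategory.Q.map cI.inv)
  let J : Finset κ := s₀ ∪ t.image Subtype.val
  have hJ : s₀ ⊆ J := Finset.subset_union_left
  let r : (∐ E₀) ⟶ ∐ fun i : {i : κ // i ∉ J} => E i.1 := incl E (· ∉ s₀) ≫ cop E J
  have hψ : ψ J hJ = ψ s₀ subset_rfl ≫ F.map r := by
    refine to_single_hom_ext ?_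
    simp only [ψ, comp_f, mkHomToSingle_f, F, single_map_f_self, Category.assoc, Iso.inv_hom_id_assoc, r]
    rw [reassoc_of% (incl_cop_cop E hJ)]
  have hzero : w ≫ DerivedCategory.Q.map (ψ J hJ) = 0 := by
    have hc : cI.hom = sigmaComparison F E₀ := rfl
    have := ht (cI.hom ≫ F.map r) fun i hi => by
      rw [hc, ι_comp_sigmaComparison_assoc, ← Functor.map_comp]
      have : Sigma.ι E₀ i ≫ r = 0 := by
        simp [r, incl, cop, E₀, show i.1 ∈ J from Finset.mem_union_right _ (Finset.mem_image_of_mem _ hi)]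
      rw [this, Functor.map_zero]
    rw [hψ, Functor.map_comp, ← Category.assoc]
    simpa only [Category.assoc, Functor.map_comp, ← Functor.map_comp_assoc, Iso.inv_hom_id,
      CategoryTheory.Functor.map_id, Category.id_comp] using this
  haveI hepi : Epi (ψ J hJ) := by
    haveI : Epi (cop E J) := (IsSplitEpi.mk' ⟨_, incl_cop' E J⟩).epi
    haveI : ∀ i, Epi ((ψ J hJ).f i) := fun i => by
      by_cases hi : i = k
      · obtain rfl := hi.symm
        simp only [ψ, mkHomToSingle_f]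
        infer_instance
      · exact ⟨fun a b _ => (isZero_single_obj_X _ _ _ _ hi).eq_of_src a b⟩
    exact HomologicalComplex.epi_of_epi_f _ inferInstance
  let T : ShortComplex (CochainComplex A ℤ) :=
    ShortComplex.mk (kernel.ι (ψ J hJ)) (ψ J hJ) (kernel.condition _)
  have hT : T.ShortExact :=
    { exact := ShortComplex.exact_of_f_is_kernel _ (kernelIsKernel _)
      mono_f := inferInstanceAs (Mono (kernel.ι _))
      epi_g := hepi }
  obtain ⟨w', hw'⟩ := Triangle.coyoneda_exact₂ _ (DerivedCategory.triangleOfSES_distinguished hT) w hzero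
  have hTi : ∀ i, (T.map (eval A (ComplexShape.up ℤ) i)).ShortExact := fun i => hT.map_of_exact _
  refine ⟨T.X₁, T.f, w', hw'.symm, ?_, fun i hi => ?_⟩
  · have hker : (incl E (· ∈ J) ≫ e.inv) ≫ (ψ J hJ).f k = 0 := by
      simp only [ψ, mkHomToSingle_f, Category.assoc, Iso.inv_hom_id_assoc]
      rw [← Category.assoc, incl_cop, zero_comp]
    haveI : Mono (T.f.f k) := (hTi k).mono_f
    obtain ⟨l, hl⟩ := KernelFork.IsLimit.lift' (hTi k).fIsKernel (incl E (· ∈ J) ≫ e.inv) hker
    have hl' : l ≫ T.f.f k = incl E (· ∈ J) ≫ e.inv := hl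
    have hw0 : (T.f.f k ≫ e.hom) ≫ cop E J = 0 := by
      have := congrArg (fun g => HomologicalComplex.Hom.f g k) T.zero
      simp only [T, ψ, comp_f, mkHomToSingle_f, zero_f] at this
      rw [← cancel_mono (singleObjXSelf (ComplexShape.up ℤ) k _).inv, zero_comp, ← this]
      simp only [T, Category.assoc]
      rfl
    refine (FinS.of_fintype (fun i : {i : κ // i ∈ J} => E i.1) fun i => hE i.1).of_iso
      { hom := l
        inv := T.f.f k ≫ e.hom ≫ toJ E J
        hom_inv_id := by rw [reassoc_of% hl', Iso.inv_hom_id_assoc, incl_toJ]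
        inv_hom_id := ?_ }
    rw [← cancel_mono (T.f.f k), Category.assoc, Category.assoc, Category.assoc, hl', Category.id_comp,
      ← cancel_mono e.hom]
    simp only [Category.assoc, Iso.inv_hom_id, Category.comp_id]
    conv_rhs => rw [← Category.comp_id (T.f.f k ≫ e.hom), ← cop_total E J, Preadditive.comp_add,
      ← Category.assoc (T.f.f k ≫ e.hom) (cop E J), hw0, zero_comp, add_zero]
    simp only [Category.assoc]
  · haveI : IsIso (T.map (eval A (ComplexShape.up ℤ) i)).f :=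
      (hTi i).isIso_f_iff.2 (isZero_single_obj_X (ComplexShape.up ℤ) k _ i hi)
    exact ⟨asIso (T.map (eval A (ComplexShape.up ℤ) i)).f⟩

/-- The main theorem. -/
theorem exists_retract
    (h1 : ∀ X : A, ∃ (ι : Type v) (E : ι → A) (π : ∐ E ⟶ X), (∀ i, E i ∈ S) ∧ Epi π)
    (h2 : ∀ E ∈ S, ∀ ι : Type v, PreservesColimitsOfShape (Discrete ι) (preadditiveCoyoneda.obj (op E)))
    {K : DerivedCategory A} (hK : CohDer.IsCompactObject K) :
    ∃ (L : CochainComplex A ℤ) (a b : ℤ),
      (∀ i : ℤ, i < a ∨ b < i → IsZero (L.X i)) ∧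
      (∀ i : ℤ, ∃ (n : ℕ) (E : Fin n → A), (∀ j, E j ∈ S) ∧ Nonempty (L.X i ≅ ⨁ E)) ∧
      Nonempty (Retract K (DerivedCategory.Q.obj L)) := by
  obtain ⟨P, a, b, hz, hS, ⟨R⟩⟩ := exists_bounded h1 hK
  have key : ∀ t : ℕ, ∃ (L : CochainComplex A ℤ) (f : L ⟶ P) (w : K ⟶ DerivedCategory.Q.obj L),
      w ≫ DerivedCategory.Q.map f = R.i ∧ (∀ i, i < a ∨ b < i → IsZero (L.X i)) ∧
      (∀ i, SumS S (L.X i)) ∧ ∀ i, i < a + t → FinS S (L.X i) := by
    intro t
    induction t with
    | zero => exact ⟨P, 𝟙 _, R.i, by simp, hz, hS,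
        fun i hi => FinS.of_isZero (hz i (Or.inl (by simpa using hi)))⟩
    | succ t ih =>
      obtain ⟨L, f, w, hw, hzL, hSL, hF⟩ := ih
      obtain ⟨L', g, w', hw', hk, hiso⟩ := exists_step h2 hK L (a + t) (hSL _) (hF _ (by omega)) w
      by_cases hb : b < a + t
      · exact ⟨L, f, w, hw, hzL, hSL, fun i hi => by
          rcases lt_or_ge i (a + t) with h | h
          · exact hF i h
          · exact FinS.of_isZero (hzL i (Or.inr (by omega)))⟩
      refine ⟨L', g ≫ f, w', by rw [Functor.map_comp, reassoc_of% hw', hw], fun i hi => ?_, fun i => ?_,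
        fun i hi => ?_⟩
      · obtain ⟨u⟩ := hiso i (by omega)
        exact (hzL i hi).of_iso u
      · by_cases h : i = a + t
        · subst h
          obtain ⟨n, E', hE', ⟨u⟩⟩ := hk
          exact ⟨ULift.{v} (Fin n), fun j => E' j.down, fun j => hE' _,
            ⟨u ≪≫ biproduct.isoCoproduct E' ≪≫ Sigma.whiskerEquiv (g := fun j : ULift.{v} (Fin n) => E' j.down) Equiv.ulift.symm fun _ => Iso.refl _⟩⟩
        · obtain ⟨u⟩ := hiso i h
          exact (hSL i).of_iso u.symm
      · by_cases h : i = a + t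
        · subst h; exact hk
        · obtain ⟨u⟩ := hiso i h
          exact (hF i (by omega)).of_iso u.symm
  obtain ⟨L, f, w, hw, hzL, -, hF⟩ := key (b - a + 1).toNat
  refine ⟨L, a, b, hzL, fun i => ?_, ⟨⟨w, DerivedCategory.Q.map f ≫ R.r, by rw [reassoc_of% hw, R.retract]⟩⟩⟩
  by_cases h : b < i
  · exact FinS.of_isZero (hzL i (Or.inr h))
  · exact hF i (by omega)

end Groth.Agent.H15Site.CompactRetract
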