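import Groth.Agent.H15Site.CompactFree.Free
import Groth.Agent.H16Derived.Compact

/-!
# Classes of direct sums, and compact objects against direct sums of complexes
-/

set_option autoImplicit false
set_option linter.style.haveILetI false
set_option linter.unusedSectionVars false
set_option backward.isDefEq.respectTransparency false
set_option backward.isDefEq.respectTransparency.types false

universe v u

open CategoryTheory CategoryTheory.Limits Opposite

namespace Groth.Agent.H15Site.CompactRetract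

open Groth.Agent.H16Derived Groth.Agent.H16Derived.QCohD

variable {A : Type u} [Category.{v} A] [Abelian A] [HasCoproducts.{v} A] [HasFiniteBiproducts A] (S : Set A)

/-- Direct sums of members of `S`. -/
def SumS (X : A) : Prop := ∃ (ι : Type v) (E : ι → A), (∀ i, E i ∈ S) ∧ Nonempty (X ≅ ∐ E)

/-- Finite direct sums of members of `S`. -/
def FinS (X : A) : Prop := ∃ (n : ℕ) (E : Fin n → A), (∀ j, E j ∈ S) ∧ Nonempty (X ≅ ⨁ E)

variable {S}

theorem SumS.of_iso {X Y : A} (e : X ≅ Y) (h : SumS S X) : SumS S Y := by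
  obtain ⟨ι, E, hE, ⟨f⟩⟩ := h
  exact ⟨ι, E, hE, ⟨e.symm ≪≫ f⟩⟩

theorem FinS.of_iso {X Y : A} (e : X ≅ Y) (h : FinS S X) : FinS S Y := by
  obtain ⟨ι, E, hE, ⟨f⟩⟩ := h
  exact ⟨ι, E, hE, ⟨e.symm ≪≫ f⟩⟩

theorem SumS.of_isZero {X : A} (hX : IsZero X) : SumS S X :=
  ⟨PEmpty, PEmpty.elim, fun i => i.elim,
    ⟨hX.iso ((IsZero.iff_id_eq_zero _).2 (Sigma.hom_ext _ _ fun i => i.elim))⟩⟩

theorem FinS.of_isZero {X : A} (hX : IsZero X) : FinS S X :=
  ⟨0, Fin.elim0, fun i => i.elim0,
    ⟨hX.iso ((IsZero.iff_id_eq_zero _).2 (biproduct.hom_ext' _ _ fun i => i.elim0))⟩⟩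

theorem FinS.of_fintype {κ : Type v} [Fintype κ] (E : κ → A) (hE : ∀ i, E i ∈ S) : FinS S (∐ E) :=
  let e := Fintype.equivFin κ
  ⟨_, fun j => E (e.symm j), fun _ => hE _,
    ⟨(biproduct.isoCoproduct E).symm ≪≫
      biproduct.whiskerEquiv e fun j => eqToIso (by simp)⟩⟩

/-- Maps from finite sums of members of `S` into direct sums have finite support. -/
theorem exists_support (h2 : ∀ E ∈ S, ∀ ι : Type v, PreservesColimitsOfShape (Discrete ι)
    (preadditiveCoyoneda.obj (op E))) {X : A} (hX : FinS S X) {κ : Type v} (F : κ → A) (g : X ⟶ ∐ F) :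
    ∃ s : Finset κ, g ≫ FinSupp.idem F s = g := by
  classical
  have hone : ∀ E ∈ S, ∀ k : E ⟶ ∐ F, ∃ s : Finset κ, k ≫ FinSupp.idem F s = k := fun E hE k => by
    haveI := h2 E hE κ
    let Φ := preadditiveCoyoneda.obj (op E)
    obtain ⟨b, hb⟩ := CompactFree.exists_finite_sum Φ F k
    refine ⟨DFinsupp.support b, ?_⟩
    let L : (E ⟶ ∐ F) →+ (E ⟶ ∐ F) := Preadditive.rightComp E (FinSupp.idem F (DFinsupp.support b))
    show L k = k
    rw [← hb]
    conv_lhs => rw [← DirectSum.sum_support_of b]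
    conv_rhs => rw [← DirectSum.sum_support_of b]
    rw [map_sum, map_sum]
    refine Finset.sum_congr rfl fun i hi => ?_
    rw [DirectSum.toAddMonoid_of]
    show ((show E ⟶ F i from b i) ≫ Sigma.ι F i) ≫ FinSupp.idem F _ = (show E ⟶ F i from b i) ≫ Sigma.ι F i
    rw [Category.assoc, FinSupp.ι_idem, if_pos hi]
  obtain ⟨n, E, hE, ⟨e⟩⟩ := hX
  choose s hs using fun j => hone _ (hE j) (biproduct.ι E j ≫ e.inv ≫ g)
  refine ⟨Finset.univ.biUnion s, ?_⟩
  rw [← cancel_epi e.inv]
  refine biproduct.hom_ext' _ _ fun j => ?_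
  simpa only [Category.assoc] using
    FinSupp.mono_support F (Finset.subset_biUnion_of_mem s (Finset.mem_univ j)) (hs j)

variable [IsGrothendieckAbelian.{v} A] [HasDerivedCategory.{v} A] [HasCoproducts.{v} (DerivedCategory A)]

/-- A map from a compact object into a direct sum of complexes sees finitely many summands. -/
theorem exists_finset {K : DerivedCategory A} (hK : CohDer.IsCompactObject K) {κ : Type v}
    (M : κ → CochainComplex A ℤ) (φ : K ⟶ DerivedCategory.Q.obj (∐ M)) :
    ∃ s : Finset κ, ∀ {N : CochainComplex A ℤ} (g : (∐ M) ⟶ N),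
      (∀ i ∈ s, Sigma.ι M i ≫ g = 0) → φ ≫ DerivedCategory.Q.map g = 0 := by
  classical
  let Q' : CochainComplex A ℤ ⥤ DerivedCategory A := DerivedCategory.Q
  haveI : PreservesColimit (Discrete.functor M) Q' := QCoprod.preservesColimit_Q M
  obtain ⟨s, hs⟩ := (FinSupp.isCompactObjRel_iff (P := fun _ : DerivedCategory A => True) K).1
    (fun ι X _ _ => hK ι X) κ (fun i => Q'.obj (M i)) (fun _ => trivial) (φ ≫ inv (sigmaComparison Q' M))
  refine ⟨s, fun {N} g hg => ?_⟩
  have hg' : FinSupp.idem M s ≫ g = 0 := by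
    rw [FinSupp.idem, Preadditive.sum_comp]
    exact Finset.sum_eq_zero fun i hi => by rw [Category.assoc, hg i hi, comp_zero]
  calc φ ≫ Q'.map g
      = ((φ ≫ inv (sigmaComparison Q' M)) ≫ FinSupp.idem (fun i => Q'.obj (M i)) s) ≫
          sigmaComparison Q' M ≫ Q'.map g := by rw [hs]; simp
    _ = φ ≫ Q'.map (FinSupp.idem M s ≫ g) := by
      simp only [Category.assoc]
      rw [← Category.assoc (FinSupp.idem _ s), FinSupp.sigmaComparison_idem, Category.assoc,
        IsIso.inv_hom_id_assoc, Functor.map_comp]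
    _ = 0 := by rw [hg', Functor.map_zero, comp_zero]

/-- If the maps `π m : C ⟶ M m` are eventually zero in each degree, maps from a compact object
eventually die. -/
theorem exists_bound {K : DerivedCategory A} (hK : CohDer.IsCompactObject K) {C : CochainComplex A ℤ}
    (φ : K ⟶ DerivedCategory.Q.obj C) (M : ℕ → CochainComplex A ℤ) (π : ∀ m, C ⟶ M m)
    (hπ : ∀ q : ℤ, ∃ N : ℕ, ∀ m ≥ N, (π m).f q = 0) :
    ∃ N : ℕ, ∀ m ≥ N, φ ≫ DerivedCategory.Q.map (π m) = 0 := by
  classical
  choose B hB using hπ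
  let M' : ULift.{v} ℕ → CochainComplex A ℤ := fun k => M k.down
  let S' : ℕ → (C ⟶ ∐ M') := fun N => ∑ m ∈ Finset.range N, π m ≫ Sigma.ι M' ⟨m⟩
  have stable : ∀ q N, B q ≤ N → (S' N).f q = (S' (B q)).f q := fun q N hN => by
    induction N, hN using Nat.le_induction with
    | base => rfl
    | succ N hN ih =>
      simp only [S', Finset.sum_range_succ, HomologicalComplex.add_f_apply, HomologicalComplex.comp_f,
        hB q N hN, zero_comp, add_zero]
      exact ih
  let f : C ⟶ ∐ M' :=
    { f := fun q => (S' (B q)).f q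
      comm' := fun q q' _ => by
        rw [← stable q (max (B q) (B q')) (le_max_left _ _),
          ← stable q' (max (B q) (B q')) (le_max_right _ _)]
        exact (S' _).comm q q' }
  obtain ⟨s, hs⟩ := exists_finset hK M' (φ ≫ DerivedCategory.Q.map f)
  refine ⟨s.sup (fun k => k.down + 1), fun m hm => ?_⟩
  have hne : ∀ i ∈ s, i ≠ (⟨m⟩ : ULift.{v} ℕ) := fun i hi h => by
    have h1 := (Finset.le_sup (f := fun k : ULift.{v} ℕ => k.down + 1) hi).trans hm
    subst h
    exact absurd h1 (by simp)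
  have hf : f ≫ FinSupp.proj M' ⟨m⟩ = π m := by
    refine HomologicalComplex.hom_ext _ _ fun q => ?_
    have e : (S' (max (B q) (m + 1))) ≫ FinSupp.proj M' ⟨m⟩ = π m := by
      simp only [S', Preadditive.sum_comp]
      rw [Finset.sum_eq_single m]
      · simp [FinSupp.proj, M']
      · intro b _ hb
        simp [FinSupp.proj, show (⟨b⟩ : ULift.{v} ℕ) ≠ ⟨m⟩ from fun h => hb (congrArg ULift.down h)]
      · intro h
        exact absurd (Finset.mem_range.2 (lt_of_lt_of_le (Nat.lt_succ_self m) (le_max_right _ _))) h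
    rw [← e, HomologicalComplex.comp_f, HomologicalComplex.comp_f, stable q _ (le_max_left _ _)]
  rw [← hf, Functor.map_comp, ← Category.assoc]
  exact hs _ fun i hi => by simp [FinSupp.proj, hne i hi]

end Groth.Agent.H15Site.CompactRetract
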